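import Cfsg.Agent.SporB.Ru.Basic
import Mathlib.GroupTheory.Subgroup.Simple

/-!
Primitivity from suborbit labels, and simplicity from generators of order prime to a point stabiliser.
-/

set_option autoImplicit false
set_option maxRecDepth 100000

namespace Cfsg.Agent.SporB.Ru

open Cfsg.Agent.CosetEnum

/-- Labels: the code of an index holds a label and a word from the root of the label to the point. -/
structure Classes where
  codes : List (List ℕ)
  roots : List ℕ
  sizes : List ℕ

/-- The label of an index. -/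
def Classes.lab (C : Classes) (k : ℕ) : ℕ := look C.codes k 0 % 16

/-- The class check at one index. -/
noncomputable def Classes.check (C : Classes) (L : Level) (k : ℕ) : Bool :=
  Nat.blt (C.lab k) C.roots.length && Nat.blt (C.roots.getD (C.lab k) 0) 4060 &&
    inS L.S' (dec (look C.codes k 0 / 16)) &&
    Nat.beq (go (dec (look C.codes k 0 / 16)) (C.roots.getD (C.lab k) 0)) (L.pt k)

/-- The sizes check of the classes. -/
noncomputable def Classes.checkSize (C : Classes) (L : Level) (c : ℕ) : Bool :=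
  Nat.beq ((Finset.range L.n).filter fun k => C.lab k = c).card (C.sizes.getD c 0)

/-- No class union through the base point can be a block. -/
def Classes.noBlock (C : Classes) (n lab0 : ℕ) : Prop :=
  ∀ A ∈ (Finset.range C.roots.length).powerset, lab0 ∈ A →
    (∑ c ∈ A, C.sizes.getD c 0) ∣ n → A = {lab0} ∨ A = Finset.range C.roots.length

variable (hok : LettersOK)

theorem isSimple_lv (L : Level) (C : Classes) {k0 : ℕ} {H : Subgroup (Equiv.Perm Pt)}
    (hF : Faithful H) (hH : lv hok L.S ≤ H) (hsub : lv hok L.S' ≤ lv hok L.S)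
    (hhead : L.checkHead k0 = true) (horb : ∀ k, k < L.n → L.checkOrbit k = true)
    (htr : ∀ k, k < L.n → L.checkTrans k = true) (hcls : ∀ k, k < L.n → C.check L k = true)
    (hsz : ∀ c, c < C.roots.length → C.checkSize L c = true)
    (hone : C.sizes.getD (C.lab k0) 0 = 1) (hblock : C.noBlock L.n (C.lab k0)) (hn : 1 < L.n)
    (hbase : ∀ x ∈ base, (∀ g ∈ lv hok L.S, ∀ i : Pt, (i : ℕ) = x → g i = i) ∨
      ∃ k, k < L.n ∧ L.pt k = x)
    (q : ℕ) (hq : q.Coprime (Nat.card (lv hok L.S')))
    (hgen : ∀ l ∈ L.S, val hok l ^ q = 1) :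
    IsSimpleGroup (lv hok L.S) := by
  classical
  obtain ⟨b, hb, hcard, hstab, hreach, horbit⟩ :=
    L.step hok hF hH hsub hhead horb htr
  set K := lv hok L.S
  set Kb := lv hok L.S' with hKb
  have hk0 : k0 < L.n := by
    simp only [Level.checkHead, Bool.and_eq_true] at hhead
    exact Nat.le_of_ble_eq_true hhead.1.1.1.2
  have hpt0 : L.pt k0 = L.b := by
    have h := horb k0 hk0
    simp only [Level.checkOrbit, Bool.and_eq_true, Level.checkHead, List.isEmpty_iff] at h hhead
    rw [← Nat.eq_of_beq_eq_true h.1.2, hhead.1.1.2]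
    rfl
  -- classes are contained in suborbits
  have hcl : ∀ i j, i < L.n → j < L.n → C.lab i = C.lab j →
      ∀ x y : Pt, (x : ℕ) = L.pt i → (y : ℕ) = L.pt j → ∃ h ∈ Kb, h x = y := by
    intro i j hi hj hij x y hx hy
    have hi' := hcls i hi
    have hj' := hcls j hj
    simp only [Classes.check, Bool.and_eq_true] at hi' hj'
    have hr : C.roots.getD (C.lab i) 0 < 4060 := Nat.le_of_ble_eq_true hi'.1.1.2
    have h1 := Nat.eq_of_beq_eq_true hi'.2
    have h2 := Nat.eq_of_beq_eq_true hj'.2
    rw [← hij] at h2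
    set A := evalWord (val hok) (dec (look C.codes i 0 / 16))
    set B := evalWord (val hok) (dec (look C.codes j 0 / 16))
    refine ⟨B⁻¹ * A, mul_mem (inv_mem (eval_mem hok hj'.1.2)) (eval_mem hok hi'.1.2), ?_⟩
    have eA : A⁻¹ ⟨_, hr⟩ = x := by
      apply Fin.ext
      rw [go_eval hok _ (inS_lt hi'.1.2), hx]
      exact h1
    have eB : B⁻¹ ⟨_, hr⟩ = y := by
      apply Fin.ext
      rw [go_eval hok _ (inS_lt hj'.1.2), hy]
      exact h2
    have eA' : A (A⁻¹ ⟨_, hr⟩) = ⟨_, hr⟩ := Equiv.apply_symm_apply A _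
    rw [Equiv.Perm.mul_apply, ← eA, eA', eB]
  have hnpos : 0 < L.n := by omega
  have hKbK : Kb ≤ K := hsub
  -- maximality
  have hmax : ∀ M : Subgroup (Equiv.Perm Pt), Kb ≤ M → M ≤ K → M = Kb ∨ M = K := by
    intro M hbM hMK
    let O : Finset ℕ := (Finset.range L.n).filter fun k => ∃ g ∈ M, ((g b : Pt) : ℕ) = L.pt k
    have hk0O : k0 ∈ O := by
      simp only [O, Finset.mem_filter, Finset.mem_range]
      exact ⟨hk0, 1, one_mem _, by rw [Equiv.Perm.one_apply, hpt0, hb]⟩
    have hconst : ∀ i j, i < L.n → j < L.n → C.lab i = C.lab j → i ∈ O → j ∈ O := by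
      intro i j hi hj hij hiO
      simp only [O, Finset.mem_filter, Finset.mem_range] at hiO ⊢
      obtain ⟨g, hg, hgi⟩ := hiO.2
      obtain ⟨g', -, hg'⟩ := hreach j hj
      obtain ⟨h, hh, hhe⟩ := hcl i j hi hj hij (g b) (g' b) hgi hg'
      exact ⟨hj, h * g, mul_mem (hbM hh) hg, by rw [Equiv.Perm.mul_apply, hhe, hg']⟩
    let A : Finset ℕ := (Finset.range C.roots.length).filter fun c => ∃ i ∈ O, C.lab i = c
    have hOlt : ∀ i ∈ O, i < L.n := fun i hi => Finset.mem_range.mp (Finset.mem_filter.mp hi).1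
    have hlab : ∀ i, i < L.n → C.lab i < C.roots.length := fun i hi => by
      have h := hcls i hi
      simp only [Classes.check, Bool.and_eq_true] at h
      exact Nat.le_of_ble_eq_true h.1.1.1
    have hOA : ∀ i, i < L.n → (i ∈ O ↔ C.lab i ∈ A) := by
      intro i hi
      simp only [A, Finset.mem_filter, Finset.mem_range]
      refine ⟨fun h => ⟨hlab i hi, i, h, rfl⟩, ?_⟩
      rintro ⟨-, j, hj, hji⟩
      exact hconst j i (hOlt j hj) hi hji hj
    have hOcard : O.card = ∑ c ∈ A, C.sizes.getD c 0 := by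
      rw [Finset.card_eq_sum_card_fiberwise (f := C.lab) (t := A)
        (fun i hi => (hOA i (hOlt i hi)).mp hi)]
      refine Finset.sum_congr rfl fun c hc => ?_
      rw [← Nat.eq_of_beq_eq_true (hsz c (Finset.mem_range.mp (Finset.mem_filter.mp hc).1))]
      congr 1
      ext i
      simp only [Finset.mem_filter, Finset.mem_range]
      exact ⟨fun ⟨h1, h2⟩ => ⟨hOlt i h1, h2⟩, fun ⟨h1, h2⟩ => ⟨(hOA i h1).mpr (h2 ▸ hc), h2⟩⟩
    -- the orbit of `b` under `M`
    have hMstab : MulAction.stabilizer M b = Kb.subgroupOf M := by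
      ext g
      rw [Subgroup.mem_subgroupOf, MulAction.mem_stabilizer_iff, ← hstab]
      exact ⟨fun h => ⟨hMK g.2, h⟩, fun h => h.2⟩
    have hptinj : Set.InjOn L.pt {k | k < L.n} := by
      have hmono : ∀ k, k < L.n → ∀ j, j < k → L.pt j < L.pt k := by
        intro k
        induction k with
        | zero => intros; omega
        | succ k ih =>
          intro hk j hj
          have h := horb (k + 1) hk
          simp only [Level.checkOrbit, Bool.and_eq_true, Bool.or_eq_true] at h
          have h' : L.pt k < L.pt (k + 1) := by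
            rcases h.2 with h2 | h2
            · have := Nat.eq_of_beq_eq_true h2; omega
            · exact Nat.le_of_ble_eq_true h2
          rcases Nat.lt_succ_iff_lt_or_eq.mp hj with h3 | rfl
          · exact (ih (by omega) j h3).trans h'
          · exact h'
      intro a ha c hc e
      rcases lt_trichotomy a c with h' | h' | h'
      · have := hmono c hc a h'; omega
      · exact h'
      · have := hmono a ha c h'; omega
    have horbM : (MulAction.orbit M b).ncard = O.card := by
      rw [← Set.ncard_coe_finset, ← Set.ncard_image_of_injective _ Fin.val_injective]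
      rw [show (Fin.val '' MulAction.orbit M b) = L.pt '' (O : Set ℕ) from ?_]
      · exact Set.ncard_image_of_injOn (hptinj.mono fun i hi => hOlt i (Finset.mem_coe.mp hi))
      ext x
      simp only [Set.mem_image, MulAction.mem_orbit_iff, Finset.mem_coe, O, Finset.mem_filter,
        Finset.mem_range]
      constructor
      · rintro ⟨_, ⟨g, rfl⟩, rfl⟩
        obtain ⟨k, hk, hgk⟩ := horbit g.1 (hMK g.2)
        exact ⟨k, ⟨hk, g.1, g.2, hgk⟩, hgk.symm⟩
      · rintro ⟨k, ⟨-, g, hg, hgk⟩, rfl⟩
        exact ⟨_, ⟨⟨g, hg⟩, rfl⟩, hgk⟩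
    have hMcard : O.card * Nat.card Kb = Nat.card M := by
      rw [← horbM, ← MulAction.index_stabilizer, hMstab,
        ← Nat.card_congr (Subgroup.subgroupOfEquivOfLe hbM).toEquiv, Subgroup.index_mul_card]
    have hdvd : O.card ∣ L.n := by
      have h := Subgroup.card_dvd_of_le hMK
      rw [← hMcard, hcard] at h
      exact Nat.dvd_of_mul_dvd_mul_right Nat.card_pos h
    rw [hOcard] at hdvd
    rcases hblock A (Finset.mem_powerset.mpr (Finset.filter_subset _ _))
        ((hOA k0 hk0).mp hk0O) hdvd with hA | hA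
    · left
      refine (Subgroup.eq_of_le_of_card_ge hbM ?_).symm
      rw [← hMcard, hOcard, hA, Finset.sum_singleton, hone, one_mul]
    · right
      refine Subgroup.eq_of_le_of_card_ge hMK ?_
      have hall : O = Finset.range L.n := by
        ext i
        refine ⟨fun h => Finset.mem_range.mpr (hOlt i h), fun h => ?_⟩
        have hi := Finset.mem_range.mp h
        rw [hOA i hi, hA, Finset.mem_range]
        exact hlab i hi
      rw [← hMcard, hall, Finset.card_range, hcard]
  haveI : Nontrivial K := by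
    rw [← Finite.one_lt_card_iff_nontrivial, hcard]
    calc 1 < L.n * 1 := by omega
      _ ≤ _ := Nat.mul_le_mul_left _ Nat.card_pos
  refine ⟨fun N hN => ?_⟩
  rcases eq_or_ne N ⊥ with hbN | hbN
  · exact Or.inl hbN
  right
  set Kb' := Kb.subgroupOf K
  have hNb : ¬ N ≤ Kb' := by
    intro hle
    apply hbN
    rw [eq_bot_iff]
    intro g hg
    rw [Subgroup.mem_bot]
    apply Subtype.ext
    refine hF g.1 (hH g.2) fun x hx i hi => ?_
    rcases hbase x hx with h | ⟨k, hk, hkx⟩
    · exact h g.1 g.2 i hi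
    obtain ⟨t, ht, htk⟩ := hreach k hk
    have hti : t b = i := Fin.ext (htk.trans (hkx.trans hi.symm))
    have h1 : ((⟨t, ht⟩ : K))⁻¹ * g * ⟨t, ht⟩ ∈ Kb' :=
      hle (by simpa using hN.conj_mem g hg (⟨t, ht⟩ : K)⁻¹)
    have h2 : t⁻¹ * g.1 * t ∈ Kb := h1
    rw [← hstab] at h2
    have h3 : (t⁻¹ * g.1 * t) b = b := h2.2
    rw [Equiv.Perm.mul_apply, Equiv.Perm.mul_apply, hti, Equiv.Perm.inv_eq_iff_eq] at h3
    rw [h3, hti]
  have hsup : N ⊔ Kb' = ⊤ := by
    have h := hmax ((N ⊔ Kb').map K.subtype) (fun g hg => ⟨⟨g, hKbK hg⟩,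
      Subgroup.mem_sup_right (show (⟨g, hKbK hg⟩ : K) ∈ Kb' from hg), rfl⟩)
      (Subgroup.map_subtype_le _)
    rcases h with h | h
    · refine absurd (fun g hg => ?_) hNb
      show g.1 ∈ Kb
      rw [← h]
      exact ⟨g, Subgroup.mem_sup_left hg, rfl⟩
    · rw [eq_top_iff]
      intro g _
      have hg : g.1 ∈ (N ⊔ Kb').map K.subtype := by rw [h]; exact g.2
      obtain ⟨g', hg', e⟩ := hg
      exact (Subtype.ext e : g' = g) ▸ hg'
  let π : K →* K ⧸ N := QuotientGroup.mk' N
  have hsurj : (π.comp Kb'.subtype).range = ⊤ := by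
    rw [MonoidHom.range_comp, Subgroup.range_subtype]
    have h := Subgroup.map_sup N Kb' π
    rw [hsup, Subgroup.map_top_of_surjective π (QuotientGroup.mk'_surjective N),
      (Subgroup.map_eq_bot_iff _).mpr (QuotientGroup.ker_mk' N).ge, bot_sup_eq] at h
    exact h.symm
  have hdvd : Nat.card (K ⧸ N) ∣ Nat.card Kb := by
    have h := Subgroup.card_range_dvd (π.comp Kb'.subtype)
    rw [hsurj, Subgroup.card_top, Nat.card_congr (Subgroup.subgroupOfEquivOfLe hKbK).toEquiv] at h
    exact h
  have hall : ∀ g : K, g.1 ∈ (L.S.map (val hok)) → g ∈ N := by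
    intro g hg
    obtain ⟨l, hl, hlg⟩ := List.mem_map.mp hg
    rw [← QuotientGroup.eq_one_iff, ← orderOf_eq_one_iff]
    refine Nat.eq_one_of_dvd_coprimes hq ?_ ((orderOf_dvd_natCard _).trans hdvd)
    apply orderOf_dvd_of_pow_eq_one
    rw [← QuotientGroup.mk_pow, show g ^ q = 1 from Subtype.ext (by
      rw [SubmonoidClass.coe_pow, OneMemClass.coe_one, ← hlg]
      exact hgen l hl), QuotientGroup.mk_one]
  rw [eq_top_iff]
  intro g _
  have hle : K ≤ N.map K.subtype := by
    refine (Subgroup.closure_le _).mpr fun x hx => ?_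
    have hxK : x ∈ K := Subgroup.subset_closure hx
    exact ⟨⟨x, hxK⟩, hall _ hx, rfl⟩
  obtain ⟨g', hg', e⟩ := hle g.2
  exact (Subtype.ext e : g' = g) ▸ hg'

end Cfsg.Agent.SporB.Ru
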