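import Cfsg.Agent.SporB.Ru.Graph
import Cfsg.Agent.SporB.Ru.Prim
import Cfsg.Agent.SporB.Ru.Cert.Letters
import Cfsg.Agent.SporB.Ru.Cert.Graph0
import Cfsg.Agent.SporB.Ru.Cert.Graph2
import Cfsg.Agent.SporB.Ru.Cert.Sig
import Cfsg.Agent.SporB.Ru.Cert.Orders
import Cfsg.Agent.SporB.Ru.Cert.Points
import Cfsg.Agent.SporB.Ru.Cert.G0Orb
import Cfsg.Agent.SporB.Ru.Cert.G0Trans
import Cfsg.Agent.SporB.Ru.Cert.G0Cls
import Cfsg.Agent.SporB.Ru.Cert.G1Orb
import Cfsg.Agent.SporB.Ru.Cert.G1Trans
import Cfsg.Agent.SporB.Ru.Cert.G2Orb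
import Cfsg.Agent.SporB.Ru.Cert.G2Trans
import Cfsg.Agent.SporB.Ru.Cert.G3Orb
import Cfsg.Agent.SporB.Ru.Cert.G3Trans
import Cfsg.Agent.SporB.Ru.Cert.T0Orb
import Cfsg.Agent.SporB.Ru.Cert.T0Trans
import Cfsg.Agent.SporB.Ru.Cert.T0Cls
import Cfsg.Agent.SporB.Ru.Cert.T1Orb
import Cfsg.Agent.SporB.Ru.Cert.T1Trans
import Cfsg.Agent.SporB.Ru.Cert.T2Orb
import Cfsg.Agent.SporB.Ru.Cert.T2Trans

/-!
A group of the order of the Rudvalis group acting on 4060 points, and a subgroup of the order of the Tits group.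
-/

set_option autoImplicit false
set_option maxRecDepth 100000

namespace Cfsg.Agent.SporB.Ru

open Cfsg.Agent.CosetEnum

/-- The value of a letter. -/
noncomputable abbrev v (l : ℕ) : Equiv.Perm Pt := val lettersOK l

/-- The subgroup generated by letters. -/
noncomputable abbrev sg (S : List ℕ) : Subgroup (Equiv.Perm Pt) := lv lettersOK S

theorem sg_le {S : List ℕ} {T : Subgroup (Equiv.Perm Pt)} (h : ∀ l ∈ S, v l ∈ T) : sg S ≤ T := by
  refine (Subgroup.closure_le _).mpr fun g hg => ?_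
  obtain ⟨l, hl, rfl⟩ := List.mem_map.mp hg
  exact h l hl

theorem sg_nil : sg [] = ⊥ := by simp [sg, lv]

theorem mem_sg {S : List ℕ} {l : ℕ} (h : l ∈ S) : v l ∈ sg S :=
  Subgroup.subset_closure (List.mem_map_of_mem h)

theorem def_mem {S W : List ℕ} {l : ℕ} (hl : l < nl) (h : inS S W = true ∧ sameAs W l = true) :
    v l ∈ sg S := by
  rw [v, ← sameAs_eq lettersOK (inS_lt h.1) hl h.2]
  exact eval_mem lettersOK h.1

theorem faithful_H : Faithful (sg [0, 2]) := by
  refine faithful_mono (sg_le ?_) (faithful_autG base_ok sig_ok)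
  intro l hl
  simp only [List.mem_cons, List.not_mem_nil, or_false] at hl
  rcases hl with rfl | rfl
  · exact mem_autG lettersOK (by decide) net0_ok rows0_ok
  · exact mem_autG lettersOK (by decide) net2_ok rows2_ok

theorem list_cases2 {a b l : ℕ} (h : l ∈ [a, b]) : l = a ∨ l = b := by simpa using h

theorem g21 : sg [12, 14] ≤ sg [8, 10] := sg_le fun l hl => by
  rcases list_cases2 hl with rfl | rfl
  exacts [def_mem (by decide) def12, def_mem (by decide) def14]

theorem g10 : sg [8, 10] ≤ sg [4, 6] := sg_le fun l hl => by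
  rcases list_cases2 hl with rfl | rfl
  exacts [def_mem (by decide) def8, def_mem (by decide) def10]

theorem g00 : sg [4, 6] ≤ sg [0, 2] := sg_le fun l hl => by
  rcases list_cases2 hl with rfl | rfl
  exacts [def_mem (by decide) def4, def_mem (by decide) def6]

theorem tg : sg [16, 18] ≤ sg [4, 6] := sg_le fun l hl => by
  rcases list_cases2 hl with rfl | rfl
  exacts [def_mem (by decide) def16, def_mem (by decide) def18]

theorem t21 : sg [24, 26, 28] ≤ sg [20, 22] := sg_le fun l hl => by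
  simp only [List.mem_cons, List.not_mem_nil, or_false] at hl
  rcases hl with rfl | rfl | rfl
  exacts [def_mem (by decide) def24, def_mem (by decide) def26, def_mem (by decide) def28]

theorem t10 : sg [20, 22] ≤ sg [16, 18] := sg_le fun l hl => by
  rcases list_cases2 hl with rfl | rfl
  exacts [def_mem (by decide) def20, def_mem (by decide) def22]

theorem sg_mono {S T : List ℕ} (h : ∀ x ∈ S, x ∈ T) : sg S ≤ sg T :=
  sg_le fun l hl => mem_sg (h l hl)

theorem deep_g0 : sg [4, 6, 8, 10, 12, 14] = sg [4, 6] := by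
  refine le_antisymm (sg_le fun l hl => ?_) (sg_mono (by decide))
  simp only [List.mem_cons, List.not_mem_nil, or_false] at hl
  rcases hl with rfl | rfl | rfl | rfl | rfl | rfl
  exacts [mem_sg (by decide), mem_sg (by decide), g10 (mem_sg (by decide)),
    g10 (mem_sg (by decide)), g10 (g21 (mem_sg (by decide))), g10 (g21 (mem_sg (by decide)))]

theorem deep_g1 : sg [8, 10, 12, 14] = sg [8, 10] := by
  refine le_antisymm (sg_le fun l hl => ?_) (sg_mono (by decide))
  simp only [List.mem_cons, List.not_mem_nil, or_false] at hl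
  rcases hl with rfl | rfl | rfl | rfl
  exacts [mem_sg (by decide), mem_sg (by decide), g21 (mem_sg (by decide)),
    g21 (mem_sg (by decide))]

theorem deep_t0 : sg [20, 22, 24, 26, 28] = sg [20, 22] := by
  refine le_antisymm (sg_le fun l hl => ?_) (sg_mono (by decide))
  simp only [List.mem_cons, List.not_mem_nil, or_false] at hl
  rcases hl with rfl | rfl | rfl | rfl | rfl
  exacts [mem_sg (by decide), mem_sg (by decide), t21 (mem_sg (by decide)),
    t21 (mem_sg (by decide)), t21 (mem_sg (by decide))]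

theorem card_g3 : Nat.card (sg [12, 14]) = 32 := by
  obtain ⟨_, -, h, -⟩ := g3.step lettersOK faithful_H ((g21.trans g10).trans g00)
    (by show sg [] ≤ sg [12, 14]; rw [sg_nil]; exact bot_le) g3_head g3_orb g3_tr
  change Nat.card (sg [12, 14]) = 32 * Nat.card (sg []) at h
  rw [h, sg_nil, Subgroup.card_bot]

theorem card_g2 : Nat.card (sg [8, 10]) = 640 * 32 := by
  obtain ⟨_, -, h, -⟩ := g2.step lettersOK faithful_H (g10.trans g00)
    (show sg [12, 14] ≤ sg [8, 10] from g21) g2_head g2_orb g2_tr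
  change Nat.card (sg [8, 10]) = 640 * Nat.card (sg [12, 14]) at h
  rw [h, card_g3]

theorem card_g1 : Nat.card (sg [4, 6]) = 35942400 := by
  obtain ⟨_, -, h, -⟩ := g1.step lettersOK faithful_H g00
    (show sg [8, 10, 12, 14] ≤ sg [4, 6] by rw [deep_g1]; exact g10) g1_head g1_orb g1_tr
  change Nat.card (sg [4, 6]) = 1755 * Nat.card (sg [8, 10, 12, 14]) at h
  rw [h, deep_g1, card_g2]

theorem g0_step : Nat.card (sg [0, 2]) = 145926144000 ∧
    sg [0, 2] ⊓ MulAction.stabilizer (Equiv.Perm Pt) (0 : Pt) = sg [4, 6] ∧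
    ∀ i : Pt, ∃ g ∈ sg [0, 2], g 0 = i := by
  obtain ⟨b, hb, h, hs, hreach, -⟩ := g0.step lettersOK faithful_H le_rfl
    (show sg [4, 6, 8, 10, 12, 14] ≤ sg [0, 2] by rw [deep_g0]; exact g00) g0_head g0_orb g0_tr
  change Nat.card (sg [0, 2]) = 4060 * Nat.card (sg [4, 6, 8, 10, 12, 14]) at h
  have hb0 : b = 0 := Fin.ext hb
  subst hb0
  change sg [0, 2] ⊓ _ = sg [4, 6, 8, 10, 12, 14] at hs
  rw [deep_g0] at h hs
  refine ⟨by rw [h, card_g1], hs, fun i => ?_⟩
  obtain ⟨g, hg, hgi⟩ := hreach i i.2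
  refine ⟨g, hg, Fin.ext (hgi.trans ?_)⟩
  exact Nat.eq_of_beq_eq_true (allRange_spec g0_pts i (Nat.zero_le _) (by omega))

theorem card_t2 : Nat.card (sg [24, 26, 28]) = 16 := by
  obtain ⟨_, -, h, -⟩ := t2.step lettersOK faithful_H (((t21.trans t10).trans tg).trans g00)
    (by show sg [] ≤ sg [24, 26, 28]; rw [sg_nil]; exact bot_le) t2_head t2_orb t2_tr
  change Nat.card (sg [24, 26, 28]) = 16 * Nat.card (sg []) at h
  rw [h, sg_nil, Subgroup.card_bot]

theorem card_t1 : Nat.card (sg [20, 22]) = 10240 := by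
  obtain ⟨_, -, h, -⟩ := t1.step lettersOK faithful_H ((t10.trans tg).trans g00)
    (show sg [24, 26, 28] ≤ sg [20, 22] from t21) t1_head t1_orb t1_tr
  change Nat.card (sg [20, 22]) = 640 * Nat.card (sg [24, 26, 28]) at h
  rw [h, card_t2]

theorem card_t0 : Nat.card (sg [16, 18]) = 17971200 := by
  obtain ⟨_, -, h, -⟩ := t0.step lettersOK faithful_H (tg.trans g00)
    (show sg [20, 22, 24, 26, 28] ≤ sg [16, 18] by rw [deep_t0]; exact t10) t0_head t0_orb t0_tr
  change Nat.card (sg [16, 18]) = 1755 * Nat.card (sg [20, 22, 24, 26, 28]) at h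
  rw [h, deep_t0, card_t1]

theorem simple_H : IsSimpleGroup (sg [0, 2]) := by
  refine isSimple_lv lettersOK g0 g0Cls (k0 := 0) faithful_H le_rfl
    (show sg [4, 6, 8, 10, 12, 14] ≤ sg [0, 2] by rw [deep_g0]; exact g00) g0_head g0_orb g0_tr
    g0_cls g0_sizes (by decide +kernel) (by rw [g0_lab0]; exact g0_noBlock) (by decide +kernel)
    ?_ 29 ?_ ?_
  · intro x hx
    have hx' : x < 4060 := Nat.le_of_ble_eq_true (List.all_eq_true.mp base_ok x hx)
    exact Or.inr ⟨x, hx', Nat.eq_of_beq_eq_true (allRange_spec g0_pts x (Nat.zero_le _) (by omega))⟩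
  · show Nat.Coprime 29 (Nat.card (sg [4, 6, 8, 10, 12, 14]))
    rw [deep_g0, card_g1]
    norm_num
  · intro l hl
    rcases list_cases2 hl with rfl | rfl
    exacts [pow_eq_one lettersOK (by decide) ord0, pow_eq_one lettersOK (by decide) ord2]

theorem simple_T : IsSimpleGroup (sg [16, 18]) := by
  refine isSimple_lv lettersOK t0 t0Cls (k0 := 487) faithful_H (tg.trans g00)
    (show sg [20, 22, 24, 26, 28] ≤ sg [16, 18] by rw [deep_t0]; exact t10) t0_head t0_orb t0_tr
    t0_cls t0_sizes (by decide +kernel) (by rw [t0_lab0]; exact t0_noBlock) (by decide +kernel)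
    ?_ 13 ?_ ?_
  · intro x hx
    rcases base_cases x hx with rfl | ⟨k, hk, hkx⟩
    · refine Or.inl fun g hg i hi => ?_
      have hg0 : g ∈ sg [4, 6] := tg hg
      rw [← g0_step.2.1] at hg0
      have hi0 : i = 0 := Fin.ext hi
      subst hi0
      exact hg0.2
    · exact Or.inr ⟨k, hk, hkx⟩
  · show Nat.Coprime 13 (Nat.card (sg [20, 22, 24, 26, 28]))
    rw [deep_t0, card_t1]
    norm_num
  · intro l hl
    rcases list_cases2 hl with rfl | rfl
    exacts [pow_eq_one lettersOK (by decide) ord16, pow_eq_one lettersOK (by decide) ord18]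

end Cfsg.Agent.SporB.Ru
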