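import Cfsg.Agent.SporB.Ru.Basic

/-!
An invariant graph bounds a group: bit permutation networks carry rows to rows.
-/

set_option autoImplicit false
set_option maxRecDepth 100000

namespace Cfsg.Agent.SporB.Ru

open Cfsg.Agent.CosetEnum

/-- One stage of a network. -/
noncomputable def stage (d m x : ℕ) : ℕ :=
  forceNat x fun x => forceNat (((x >>> d) ^^^ x) &&& m) fun t => x ^^^ t ^^^ (t <<< d)

/-- A network of stages. -/
noncomputable def net : List (ℕ × ℕ) → ℕ → ℕ :=
  List.rec (motive := fun _ => ℕ → ℕ) (fun x => x)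
    (fun dm _ ih x => forceNat (stage dm.1 dm.2 x) ih)

theorem stage_xor (d m a b : ℕ) : stage d m (a ^^^ b) = stage d m a ^^^ stage d m b := by
  apply Nat.eq_of_testBit_eq
  intro i
  simp only [stage, forceNat_eq, Nat.testBit_xor, Nat.testBit_and, Nat.testBit_shiftRight,
    Nat.testBit_shiftLeft]
  generalize a.testBit i = p
  generalize b.testBit i = q
  generalize a.testBit (d + i) = p1
  generalize b.testBit (d + i) = q1
  generalize m.testBit i = r
  generalize a.testBit (i - d) = p2
  generalize b.testBit (i - d) = q2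
  generalize a.testBit (d + (i - d)) = p3
  generalize b.testBit (d + (i - d)) = q3
  generalize m.testBit (i - d) = s
  generalize decide (i ≥ d) = e
  cases p <;> cases q <;> cases p1 <;> cases q1 <;> cases r <;> cases e <;> cases p2 <;>
    cases q2 <;> cases p3 <;> cases q3 <;> cases s <;> rfl

theorem net_xor : ∀ (L : List (ℕ × ℕ)) (a b : ℕ), net L (a ^^^ b) = net L a ^^^ net L b
  | [], _, _ => rfl
  | dm :: L, a, b => by
    show forceNat (stage dm.1 dm.2 (a ^^^ b)) (net L) =
      forceNat (stage dm.1 dm.2 a) (net L) ^^^ forceNat (stage dm.1 dm.2 b) (net L)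
    rw [forceNat_eq, forceNat_eq, forceNat_eq, stage_xor, net_xor L]

theorem testBit_of_linear {N : ℕ} {f : ℕ → ℕ} (hlin : ∀ a b, f (a ^^^ b) = f a ^^^ f b) {σ : ℕ → ℕ}
    (hσ : ∀ i, i < N → ∀ j, j < N → σ i = σ j → i = j) (h : ∀ i, i < N → f (2 ^ i) = 2 ^ σ i) :
    ∀ k, k ≤ N → ∀ x, x < 2 ^ k → ∀ j, j < N → (f x).testBit (σ j) = x.testBit j := by
  intro k
  induction k with
  | zero =>
    intro _ x hx j _
    obtain rfl : x = 0 := by simpa using hx
    have h0 : f 0 = 0 := by
      have := hlin 0 0
      rwa [Nat.xor_self, Nat.xor_self] at this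
    rw [h0, Nat.zero_testBit, Nat.zero_testBit]
  | succ k ih =>
    intro hk x hx j hj
    cases hb : x.testBit k with
    | false =>
      refine ih (by omega) x ?_ j hj
      apply Nat.lt_pow_two_of_testBit
      intro i hi
      rcases Nat.eq_or_lt_of_le hi with rfl | hi'
      · exact hb
      · exact Nat.testBit_lt_two_pow (hx.trans_le (Nat.pow_le_pow_right (by norm_num) hi'))
    | true =>
      have hy : x ^^^ 2 ^ k < 2 ^ k := by
        apply Nat.lt_pow_two_of_testBit
        intro i hi
        rw [Nat.testBit_xor, Nat.testBit_two_pow]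
        rcases Nat.eq_or_lt_of_le hi with rfl | hi'
        · simp [hb]
        · rw [Nat.testBit_lt_two_pow (hx.trans_le (Nat.pow_le_pow_right (by norm_num) hi'))]
          simp [Nat.ne_of_lt hi']
      have e : x = (x ^^^ 2 ^ k) ^^^ 2 ^ k := by rw [Nat.xor_assoc, Nat.xor_self, Nat.xor_zero]
      rw [e, hlin, h k (by omega), Nat.testBit_xor, Nat.testBit_xor, ih (by omega) _ hy j hj,
        Nat.testBit_two_pow, Nat.testBit_two_pow]
      congr 1
      by_cases hkj : k = j
      · simp [hkj]
      · have hne : σ k ≠ σ j := fun e' => hkj (hσ k (by omega) j hj e')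
        rw [decide_eq_false hkj, decide_eq_false hne]

/-- The check of a network on one basis vector. -/
noncomputable def netOK (L : List (ℕ × ℕ)) (l i : ℕ) : Bool :=
  Nat.beq (net L (1 <<< i)) (1 <<< act i l)

/-- The check of one row. -/
noncomputable def rowOK (rows : List (List ℕ)) (L : List (ℕ × ℕ)) (l i : ℕ) : Bool :=
  forceNat (look rows i 0) fun r => Nat.blt r (2 ^ 4060) && Nat.beq (net L r) (look rows (act i l) 0)

/-- Adjacency. -/
def adj (rows : List (List ℕ)) (i j : ℕ) : Bool := (look rows i 0).testBit j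

/-- The permutations preserving adjacency. -/
def autG (rows : List (List ℕ)) : Subgroup (Equiv.Perm Pt) where
  carrier := {g | ∀ i j : Pt, adj rows (g i : Pt) (g j : Pt) = adj rows i j}
  one_mem' _ _ := rfl
  mul_mem' {a b} ha hb i j := (ha (b i) (b j)).trans (hb i j)
  inv_mem' {a} ha i j := by
    have h := ha (a⁻¹ i) (a⁻¹ j)
    rw [show a (a⁻¹ i) = i from Equiv.apply_symm_apply a i,
      show a (a⁻¹ j) = j from Equiv.apply_symm_apply a j] at h
    exact h.symm

theorem mem_autG (hok : LettersOK) {rows : List (List ℕ)} {L : List (ℕ × ℕ)} {l : ℕ} (hl : l < nl)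
    (h1 : ∀ i, i < 4060 → netOK L l i = true) (h2 : ∀ i, i < 4060 → rowOK rows L l i = true) :
    val hok l ∈ autG rows := by
  refine inv_mem_iff.mp ?_
  intro i j
  show adj rows ((((val hok l)⁻¹ : Equiv.Perm Pt) i : Pt) : ℕ)
    ((((val hok l)⁻¹ : Equiv.Perm Pt) j : Pt) : ℕ) = _
  rw [val_inv_apply hok hl, val_inv_apply hok hl]
  have hr := h2 i i.2
  rw [rowOK, forceNat_eq, Bool.and_eq_true] at hr
  unfold adj
  rw [← Nat.eq_of_beq_eq_true hr.2]
  refine testBit_of_linear (N := 4060) (σ := fun x => act x l) (net_xor L) ?_ ?_ 4060 le_rfl _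
    (Nat.le_of_ble_eq_true hr.1) j j.2
  · intro a ha c hc e
    have h := (act_ok hok ⟨a, ha⟩ hl).2
    have h' := (act_ok hok ⟨c, hc⟩ hl).2
    simp only at h h'
    change act a l = act c l at e
    rw [e] at h
    exact h.symm.trans h'
  · intro a ha
    have := Nat.eq_of_beq_eq_true (h1 a ha)
    rwa [Nat.one_shiftLeft, Nat.one_shiftLeft] at this

/-- The signature of a point against the base. -/
def sig (rows : List (List ℕ)) (x : ℕ) : ℕ :=
  base.foldl (fun acc b => 4 * acc + (if adj rows b x then 2 else 0) + (if x = b then 1 else 0)) 0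

/-- Signatures are pairwise different. -/
noncomputable def sigOK (rows srt rk : List (List ℕ)) (k : ℕ) : Bool :=
  Nat.blt (look rk k 0) 4060 && Nat.beq (look srt (look rk k 0) 0) k &&
    (Nat.beq k 0 || Nat.blt (sig rows (look srt (k - 1) 0)) (sig rows (look srt k 0)))

theorem sig_inj {rows srt rk : List (List ℕ)} (h : ∀ k, k < 4060 → sigOK rows srt rk k = true)
    {x y : ℕ} (hx : x < 4060) (hy : y < 4060) (e : sig rows x = sig rows y) : x = y := by
  have hm : ∀ k, k < 4060 → ∀ j, j < k → sig rows (look srt j 0) < sig rows (look srt k 0) := by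
    intro k
    induction k with
    | zero => intros; omega
    | succ k ih =>
      intro hk j hj
      have h' := h (k + 1) hk
      simp only [sigOK, Bool.and_eq_true, Bool.or_eq_true] at h'
      have h1 : sig rows (look srt k 0) < sig rows (look srt (k + 1) 0) := by
        rcases h'.2 with h2 | h2
        · have := Nat.eq_of_beq_eq_true h2; omega
        · exact Nat.le_of_ble_eq_true h2
      rcases Nat.lt_succ_iff_lt_or_eq.mp hj with h3 | rfl
      · exact (ih (by omega) j h3).trans h1
      · exact h1
  have g : ∀ x, x < 4060 → look rk x 0 < 4060 ∧ look srt (look rk x 0) 0 = x := fun x hx => by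
    have h' := h x hx
    simp only [sigOK, Bool.and_eq_true] at h'
    exact ⟨Nat.le_of_ble_eq_true h'.1.1, Nat.eq_of_beq_eq_true h'.1.2⟩
  obtain ⟨gx, gx'⟩ := g x hx
  obtain ⟨gy, gy'⟩ := g y hy
  rcases lt_trichotomy (look rk x 0) (look rk y 0) with h' | h' | h'
  · have := hm _ gy _ h'; rw [gx', gy'] at this; omega
  · rw [← gx', h', gy']
  · have := hm _ gx _ h'; rw [gx', gy'] at this; omega

theorem faithful_autG {rows srt rk : List (List ℕ)} (hb : base.all (fun b => Nat.blt b 4060) = true)
    (h : ∀ k, k < 4060 → sigOK rows srt rk k = true) : Faithful (autG rows) := by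
  intro g hg hfix
  ext i
  refine sig_inj h (g i).2 i.2 ?_
  unfold sig
  have key : ∀ (l : List ℕ), (∀ b ∈ l, b ∈ base) → ∀ acc : ℕ,
      l.foldl (fun acc b => 4 * acc + (if adj rows b (g i : Pt) then 2 else 0) +
        (if ((g i : Pt) : ℕ) = b then 1 else 0)) acc =
      l.foldl (fun acc b => 4 * acc + (if adj rows b i then 2 else 0) +
        (if (i : ℕ) = b then 1 else 0)) acc := by
    intro l
    induction l with
    | nil => intros; rfl
    | cons b l ih =>
      intro hl acc
      have hbb := hl b List.mem_cons_self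
      have hb' : b < 4060 := Nat.le_of_ble_eq_true (List.all_eq_true.mp hb b hbb)
      have hf : g ⟨b, hb'⟩ = ⟨b, hb'⟩ := hfix b hbb _ rfl
      have e1 : adj rows b (g i : Pt) = adj rows b i := by
        have := hg ⟨b, hb'⟩ i
        rw [hf] at this
        exact this
      have e2 : (((g i : Pt) : ℕ) = b) ↔ ((i : ℕ) = b) := by
        constructor
        · intro e
          have : g i = g ⟨b, hb'⟩ := by rw [hf]; exact Fin.ext e
          exact congrArg Fin.val (g.injective this)
        · intro e
          have : i = ⟨b, hb'⟩ := Fin.ext e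
          rw [this, hf]
      simp only [List.foldl_cons, e1, e2]
      exact ih (fun c hc => hl c (List.mem_cons_of_mem _ hc)) _
  exact key base (fun _ hb => hb) 0

theorem faithful_mono {H K : Subgroup (Equiv.Perm Pt)} (h : H ≤ K) (hK : Faithful K) : Faithful H :=
  fun g hg => hK g (h hg)

end Cfsg.Agent.SporB.Ru
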