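import Cfsg.Agent.SporB.Ru.Table
import Cfsg.Agent.Lib.CosetEnum.Glue

/-!
Letters, words and certificates for permutation groups on 4060 points.
-/

set_option autoImplicit false
set_option maxRecDepth 100000

namespace Cfsg.Agent.SporB.Ru

open Cfsg.Agent.CosetEnum

/-- The points. -/
abbrev Pt : Type := Fin 4060

/-- The image of a point under a letter. -/
noncomputable def act (i l : ℕ) : ℕ := forceNat (Nat.add (Nat.mul l (nat_lit 4096)) i) tx

/-- The inverse letter. -/
def linv (l : ℕ) : ℕ := bif Nat.beq (l % 2) 0 then l + 1 else l - 1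

/-- Run a word. -/
noncomputable def go (W : List ℕ) : ℕ → ℕ :=
  List.rec (motive := fun _ => ℕ → ℕ) (fun i => i) (fun l _ ih i => forceNat (act i l) ih) W

/-- A letter is a permutation. -/
noncomputable def letterOK (l : ℕ) : Bool :=
  allRange (fun i => forceNat (act i l) fun j => Nat.blt j 4060 && Nat.beq (act j (linv l)) i) 0 4060

/-- All letters are permutations. -/
def LettersOK : Prop := ∀ l, l < nl → letterOK l = true

theorem linv_spec {l : ℕ} (hl : l < nl) : linv l < nl ∧ linv (linv l) = l := by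
  revert l
  decide +kernel

theorem act_ok (hok : LettersOK) (i : Pt) {l : ℕ} (hl : l < nl) :
    act i l < 4060 ∧ act (act i l) (linv l) = i := by
  have h := allRange_spec (hok l hl) i (Nat.zero_le _) (by omega)
  rw [forceNat_eq, Bool.and_eq_true] at h
  exact ⟨Nat.le_of_ble_eq_true h.1, Nat.eq_of_beq_eq_true h.2⟩

variable (hok : LettersOK)

/-- The permutation of a letter. -/
noncomputable def perm (l : ℕ) : Equiv.Perm Pt :=
  if hl : l < nl then
    { toFun := fun i => ⟨act i l, (act_ok hok i hl).1⟩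
      invFun := fun i => ⟨act i (linv l), (act_ok hok i (linv_spec hl).1).1⟩
      left_inv := fun i => Fin.ext (act_ok hok i hl).2
      right_inv := fun i => Fin.ext (by
        have h := (act_ok hok i (linv_spec hl).1).2
        rwa [(linv_spec hl).2] at h) }
  else 1

/-- The value of a letter: words act from the left to the right. -/
noncomputable def val (l : ℕ) : Equiv.Perm Pt := (perm hok l)⁻¹

theorem val_inv_apply {l : ℕ} (hl : l < nl) (i : Pt) :
    ((((val hok l)⁻¹ : Equiv.Perm Pt) i : Pt) : ℕ) = act i l := by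
  rw [val, inv_inv, perm, dif_pos hl]
  rfl

theorem val_linv {l : ℕ} (hl : l < nl) : val hok (linv l) = (val hok l)⁻¹ := by
  apply inv_injective
  ext i
  rw [val_inv_apply hok (linv_spec hl).1, inv_inv, val, perm, dif_pos hl]
  rfl

theorem go_eval : ∀ (W : List ℕ), (∀ l ∈ W, l < nl) → ∀ i : Pt,
    ((((evalWord (val hok) W)⁻¹ : Equiv.Perm Pt) i : Pt) : ℕ) = go W i
  | [], _, i => by simp [evalWord]; rfl
  | l :: W, h, i => by
    show (((val hok l * evalWord (val hok) W)⁻¹ i : Pt) : ℕ) = _
    rw [mul_inv_rev, Equiv.Perm.mul_apply, go_eval W (fun x hx => h x (List.mem_cons_of_mem _ hx)),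
      val_inv_apply hok (h l List.mem_cons_self)]
    show _ = forceNat (act i l) (go W)
    rw [forceNat_eq]

/-- The subgroup generated by some letters. -/
noncomputable def lv (S : List ℕ) : Subgroup (Equiv.Perm Pt) :=
  Subgroup.closure {g | g ∈ S.map (val hok)}

/-- A word uses only the given letters and their inverses. -/
def inS (S W : List ℕ) : Bool := W.all fun l => Nat.blt l nl && S.contains (2 * (l / 2))

theorem inS_lt {S W : List ℕ} (h : inS S W = true) : ∀ l ∈ W, l < nl := fun l hl => by
  simp only [inS, List.all_eq_true, Bool.and_eq_true] at h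
  exact Nat.le_of_ble_eq_true (h l hl).1

theorem eval_mem {S : List ℕ} : ∀ {W : List ℕ}, inS S W = true → evalWord (val hok) W ∈ lv hok S
  | [], _ => one_mem _
  | l :: W, h => by
    simp only [inS, List.all_cons, Bool.and_eq_true] at h
    refine mul_mem ?_ (eval_mem h.2)
    have hmem : val hok (2 * (l / 2)) ∈ lv hok S :=
      Subgroup.subset_closure (List.mem_map_of_mem (List.contains_iff_mem.mp h.1.2))
    have hl : l < nl := Nat.le_of_ble_eq_true h.1.1
    rcases Nat.mod_two_eq_zero_or_one l with he | he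
    · rwa [show 2 * (l / 2) = l by omega] at hmem
    · have hl' : 2 * (l / 2) < nl := by omega
      have e : l = linv (2 * (l / 2)) := by
        simp only [linv, Nat.mul_mod_right, beq_self_eq_true, Nat.beq_refl, cond_true]
        omega
      rw [e, val_linv hok hl']
      exact inv_mem hmem

/-- A word has the same action as a letter. -/
noncomputable def sameAs (W : List ℕ) (l : ℕ) : Bool :=
  allRange (fun i => Nat.beq (go W i) (act i l)) 0 4060

theorem sameAs_eq {W : List ℕ} {l : ℕ} (hW : ∀ x ∈ W, x < nl) (hl : l < nl)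
    (h : sameAs W l = true) : evalWord (val hok) W = val hok l := by
  apply inv_injective
  ext i
  rw [go_eval hok W hW, val_inv_apply hok hl]
  exact Nat.eq_of_beq_eq_true (allRange_spec h i (Nat.zero_le _) (by omega))

/-- Decode a word. -/
def dec (c : ℕ) : List ℕ := (List.range (c % 256)).map fun k => c / 256 / 32 ^ k % 32

/-- Look up in chunks of 64. -/
def look {α : Type} (L : List (List α)) (k : ℕ) (d : α) : α := (L.getD (k / 64) []).getD (k % 64) d

/-- Two words agree on the base. -/
noncomputable def agree (u v : List ℕ) : Bool := base.all fun b => Nat.beq (go u b) (go v b)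

/-- The group is faithful on the base. -/
def Faithful (H : Subgroup (Equiv.Perm Pt)) : Prop :=
  ∀ g ∈ H, (∀ b ∈ base, ∀ i : Pt, (i : ℕ) = b → g i = i) → g = 1

theorem agree_eq {H : Subgroup (Equiv.Perm Pt)} (hF : Faithful H) {u v : List ℕ}
    (hu : ∀ l ∈ u, l < nl) (hv : ∀ l ∈ v, l < nl) (huH : evalWord (val hok) u ∈ H)
    (hvH : evalWord (val hok) v ∈ H) (h : agree u v = true) :
    evalWord (val hok) u = evalWord (val hok) v := by
  rw [← mul_inv_eq_one]
  refine hF _ (mul_mem huH (inv_mem hvH)) fun b hb i hi => ?_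
  simp only [agree, List.all_eq_true] at h
  have e := Nat.eq_of_beq_eq_true (h b hb)
  rw [← hi, ← go_eval hok u hu, ← go_eval hok v hv] at e
  rw [Equiv.Perm.mul_apply, ← Fin.ext e]
  exact Equiv.apply_symm_apply (evalWord (val hok) u) i

/-- One level of the chain: base point, letters, orbit, representatives. -/
structure Level where
  b : ℕ
  S : List ℕ
  S' : List ℕ
  n : ℕ
  pts : List (List ℕ)
  reps : List (List ℕ)
  trans : List (List ℕ)

/-- The point number `k`. -/
def Level.pt (L : Level) (k : ℕ) : ℕ := look L.pts k 0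

/-- The representative of the point number `k`. -/
def Level.rep (L : Level) (k : ℕ) : List ℕ := dec (look L.reps k 0)

/-- The orbit check at one index. -/
noncomputable def Level.checkOrbit (L : Level) (k : ℕ) : Bool :=
  inS L.S (L.rep k) && Nat.beq (go (L.rep k) L.b) (L.pt k) &&
    (Nat.beq k 0 || Nat.blt (L.pt (k - 1)) (L.pt k))

/-- The closure check at one index: the code of a transition holds an index and a word. -/
noncomputable def Level.checkTrans (L : Level) (k : ℕ) : Bool :=
  allRange (fun s => forceNat (look L.trans (k * L.S.length + s) 0) fun c =>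
    Nat.blt (c % 4096) L.n && inS L.S' (dec (c / 4096)) &&
      agree (L.rep k ++ [L.S.getD s 0]) (dec (c / 4096) ++ L.rep (c % 4096))) 0 L.S.length

/-- The conditions on a level other than the ranges. -/
noncomputable def Level.checkHead (L : Level) (k0 : ℕ) : Bool :=
  Nat.blt L.b 4060 && Nat.blt k0 L.n && (L.rep k0).isEmpty &&
    L.S.all (fun l => Nat.blt l nl && Nat.beq (l % 2) 0) &&
    L.S'.all (fun l => Nat.blt l nl && Nat.beq (act L.b l) L.b)

theorem closure_le_of_closed {G : Type} [Group G] [Finite G] (S : Set G) (gens : Set G)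
    (h1 : (1 : G) ∈ S) (hs : ∀ x ∈ S, ∀ s ∈ gens, x * s ∈ S) :
    (Subgroup.closure gens : Set G) ⊆ S := by
  intro g hg
  rw [SetLike.mem_coe, ← Subgroup.mem_toSubmonoid, Subgroup.closure_toSubmonoid_of_finite] at hg
  suffices ∀ x ∈ S, x * g ∈ S by simpa using this 1 h1
  induction hg using Submonoid.closure_induction with
  | mem a ha => exact fun x hx => hs x hx a ha
  | one => intro x hx; rwa [mul_one]
  | mul a b _ _ iha ihb => intro x hx; rw [← mul_assoc]; exact ihb _ (iha x hx)

/-- One level gives the exact order and the orbit. -/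
theorem Level.step (L : Level) {k0 : ℕ} {H : Subgroup (Equiv.Perm Pt)} (hF : Faithful H)
    (hH : lv hok L.S ≤ H) (hsub : lv hok L.S' ≤ lv hok L.S) (hhead : L.checkHead k0 = true)
    (horb : ∀ k, k < L.n → L.checkOrbit k = true) (htr : ∀ k, k < L.n → L.checkTrans k = true) :
    ∃ b : Pt, (b : ℕ) = L.b ∧ Nat.card (lv hok L.S) = L.n * Nat.card (lv hok L.S') ∧
      lv hok L.S ⊓ MulAction.stabilizer (Equiv.Perm Pt) b = lv hok L.S' ∧
      (∀ k, k < L.n → ∃ g ∈ lv hok L.S, ((g b : Pt) : ℕ) = L.pt k) ∧
      (∀ g ∈ lv hok L.S, ∃ k, k < L.n ∧ ((g b : Pt) : ℕ) = L.pt k) := by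
  simp only [Level.checkHead, Bool.and_eq_true, List.all_eq_true, List.isEmpty_iff] at hhead
  obtain ⟨⟨⟨⟨hb, hk0⟩, hrep0⟩, hS⟩, hS'⟩ := hhead
  have hb : L.b < 4060 := Nat.le_of_ble_eq_true hb
  have hk0 : k0 < L.n := Nat.le_of_ble_eq_true hk0
  set b : Pt := ⟨L.b, hb⟩ with hbd
  have hO : ∀ k, k < L.n → inS L.S (L.rep k) = true ∧ go (L.rep k) L.b = L.pt k := fun k hk => by
    have h := horb k hk
    simp only [Level.checkOrbit, Bool.and_eq_true] at h
    exact ⟨h.1.1, Nat.eq_of_beq_eq_true h.1.2⟩
  let R : ℕ → Equiv.Perm Pt := fun k => evalWord (val hok) (L.rep k)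
  have hR : ∀ k, k < L.n → R k ∈ lv hok L.S := fun k hk => eval_mem hok (hO k hk).1
  let T : Set (Equiv.Perm Pt) :=
    Set.range fun t : Fin L.n × lv hok L.S' => (t.2 : Equiv.Perm Pt) * R t.1
  have hclosed : (lv hok L.S : Set (Equiv.Perm Pt)) ⊆ T := by
    refine closure_le_of_closed _ _ ⟨(⟨k0, hk0⟩, 1), ?_⟩ ?_
    · show (1 : Equiv.Perm Pt) * evalWord (val hok) (L.rep k0) = 1
      rw [hrep0, one_mul]
      rfl
    rintro _ ⟨⟨k, l⟩, rfl⟩ s hs
    obtain ⟨x, hx, rfl⟩ := List.mem_map.mp hs
    obtain ⟨j, hj, rfl⟩ := List.getElem_of_mem hx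
    have h := allRange_spec (htr k k.2) j (Nat.zero_le _) (by omega)
    rw [forceNat_eq, List.getD_eq_getElem _ _ hj] at h
    simp only [Bool.and_eq_true] at h
    set c := look L.trans (k * L.S.length + j) 0
    have hc : c % 4096 < L.n := Nat.le_of_ble_eq_true h.1.1
    have hxl : L.S[j] < nl := Nat.le_of_ble_eq_true (hS _ (List.getElem_mem hj)).1
    have e := agree_eq hok hF
      (fun y hy => (List.mem_append.mp hy).elim (inS_lt (hO k k.2).1 y)
        fun hy' => List.mem_singleton.mp hy' ▸ hxl)
      (fun y hy => (List.mem_append.mp hy).elim (inS_lt h.1.2 y) (inS_lt (hO _ hc).1 y))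
      (by
        rw [evalWord_append]
        refine mul_mem (hH (hR k k.2)) (hH ?_)
        show val hok L.S[j] * 1 ∈ lv hok L.S
        rw [mul_one]
        exact Subgroup.subset_closure (List.mem_map_of_mem (List.getElem_mem hj)))
      (by
        rw [evalWord_append]
        exact mul_mem (hH (hsub (eval_mem hok h.1.2))) (hH (hR _ hc))) h.2
    rw [evalWord_append, evalWord_append] at e
    refine ⟨(⟨_, hc⟩, l * ⟨_, eval_mem hok h.1.2⟩), ?_⟩
    simp only [Subgroup.coe_mul]
    rw [mul_assoc, mul_assoc]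
    congr 1
    exact e.symm.trans (by show R k * (val hok L.S[j] * 1) = R k * val hok L.S[j]; rw [mul_one])
  have hfix : lv hok L.S' ≤ MulAction.stabilizer (Equiv.Perm Pt) b := by
    rw [lv, Subgroup.closure_le]
    intro g hg
    obtain ⟨l, hl, rfl⟩ := List.mem_map.mp hg
    obtain ⟨h1, h2⟩ := hS' l hl
    refine inv_mem_iff.mp ?_
    rw [MulAction.mem_stabilizer_iff, Equiv.Perm.smul_def]
    exact Fin.ext ((val_inv_apply hok (Nat.le_of_ble_eq_true h1) b).trans (Nat.eq_of_beq_eq_true h2))
  have hle : lv hok L.S' ≤ lv hok L.S ⊓ MulAction.stabilizer (Equiv.Perm Pt) b := le_inf hsub hfix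
  have hup : Nat.card (lv hok L.S) ≤ L.n * Nat.card (lv hok L.S') := by
    calc Nat.card (lv hok L.S) = (lv hok L.S : Set (Equiv.Perm Pt)).ncard := Nat.card_coe_set_eq _
      _ ≤ T.ncard := Set.ncard_le_ncard hclosed (Set.toFinite _)
      _ ≤ Nat.card (Fin L.n × lv hok L.S') := by
        rw [← Nat.card_coe_set_eq]; exact Finite.card_range_le _
      _ = L.n * Nat.card (lv hok L.S') := by rw [Nat.card_prod, Nat.card_fin]
  have hRb : ∀ k, k < L.n → (((R k)⁻¹ b : Pt) : ℕ) = L.pt k := fun k hk => by
    rw [go_eval hok _ (inS_lt (hO k hk).1)]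
    exact (hO k hk).2
  have hreach : ∀ k, k < L.n → ∃ g ∈ lv hok L.S, ((g b : Pt) : ℕ) = L.pt k := fun k hk =>
    ⟨_, inv_mem (hR k hk), hRb k hk⟩
  have hmono : ∀ k, k < L.n → ∀ j, j < k → L.pt j < L.pt k := by
    intro k
    induction k with
    | zero => intros; omega
    | succ k ih =>
      intro hk j hj
      have h := horb (k + 1) hk
      simp only [Level.checkOrbit, Bool.and_eq_true, Bool.or_eq_true] at h
      have h' : L.pt k < L.pt (k + 1) := by
        rcases h.2 with h2 | h2
        · have := Nat.eq_of_beq_eq_true h2; omega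
        · exact Nat.le_of_ble_eq_true h2
      rcases Nat.lt_succ_iff_lt_or_eq.mp hj with h3 | rfl
      · exact (ih (by omega) j h3).trans h'
      · exact h'
  let f : Fin L.n → Pt := fun k => (R k)⁻¹ b
  have hf : Function.Injective f := by
    intro a c he
    have he' : L.pt a = L.pt c := by
      rw [← hRb a a.2, ← hRb c c.2]
      exact congrArg Fin.val he
    apply Fin.ext
    rcases lt_trichotomy (a : ℕ) c with h' | h' | h'
    · have := hmono c c.2 a h'; omega
    · exact h'
    · have := hmono a a.2 c h'; omega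
  have hlow := Glue.card_step (lv hok L.S) b (List.ofFn f) (List.nodup_ofFn.mpr hf) (fun x hx => by
    obtain ⟨k, rfl⟩ := List.mem_ofFn.mp hx
    exact ⟨_, inv_mem (hR k k.2), rfl⟩)
  rw [List.length_ofFn] at hlow
  have hcle := Nat.le_of_dvd Nat.card_pos (Subgroup.card_dvd_of_le hle)
  have hn : 0 < L.n := by omega
  have heq : Nat.card (lv hok L.S) = L.n * Nat.card (lv hok L.S') :=
    le_antisymm hup (le_trans (Nat.mul_le_mul_left _ hcle) hlow)
  refine ⟨b, rfl, heq, ?_, hreach, ?_⟩
  · refine (Subgroup.eq_of_le_of_card_ge hle ?_).symm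
    rw [heq] at hlow
    exact Nat.le_of_mul_le_mul_left hlow hn
  · intro g hg
    obtain ⟨⟨k, l⟩, hkl⟩ := hclosed (inv_mem hg)
    refine ⟨k, k.2, ?_⟩
    have hkl' : (l : Equiv.Perm Pt) * R k = g⁻¹ := hkl
    rw [show g = (R k)⁻¹ * (l : Equiv.Perm Pt)⁻¹ by rw [← mul_inv_rev, hkl', inv_inv],
      Equiv.Perm.mul_apply]
    have : ((l : Equiv.Perm Pt))⁻¹ b = b :=
      MulAction.mem_stabilizer_iff.mp (inv_mem (hfix l.2))
    rw [this]
    exact hRb k k.2

end Cfsg.Agent.SporB.Ru
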